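import Groth.Agent.ProjLib.ClosedSub
import Groth.Prelude.Def_CohB1

/-!
# The homogeneous ideal of a closed subscheme of projective space over a ring
-/

set_option autoImplicit false
set_option linter.style.haveILetI false
set_option backward.isDefEq.respectTransparency false

universe u

open CategoryTheory AlgebraicGeometry HomogeneousLocalization MvPolynomial

noncomputable section

namespace Groth.Agent.FlatCI

variable {A : Type u} [CommRing A] {N : ℕ}

local notation "P" => MvPolynomial (Fin (N + 1)) A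
local notation "ℋ" => CohB1.polyGrading N A

theorem X_mem (l : Fin (N + 1)) : (X l : P) ∈ ℋ 1 := isHomogeneous_X A l

/-- Scaling the variables of a form. -/
theorem eval₂_smul {R : Type*} [CommRing R] (g : A →+* R) {t : R} (a : Fin (N + 1) → R) {F : P} {m : ℕ}
    (hF : F.IsHomogeneous m) : eval₂ g (fun i => t * a i) F = t ^ m * eval₂ g a F := by
  rw [eval₂_eq', eval₂_eq', Finset.mul_sum]
  refine Finset.sum_congr rfl fun e he => ?_
  have h := hF (mem_support_iff.mp he)
  simp only [mul_pow, Finset.prod_mul_distrib, Finset.prod_pow_eq_pow_sum]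
  rw [show ∑ i, e i = m by
    rw [← h, Finsupp.weight_apply, Finsupp.sum_fintype _ _ (by simp)]
    simp]
  ring

/-- The structure map of a chart. -/
def awayC (x : MvPolynomial (Fin (N + 1)) A) : A →+* Away ℋ x :=
  (fromZeroRingHom ℋ (Submonoid.powers x)).comp (algebraMap A (ℋ 0))

/-- Dehomogenisation at the variable `l`. -/
def deh (l : Fin (N + 1)) : MvPolynomial (Fin (N + 1)) A →+* Away ℋ (X l) :=
  eval₂Hom (awayC (X l)) fun i => Away.mk ℋ (X_mem l) 1 (X i) (by simpa using X_mem i)

theorem deh_form (l : Fin (N + 1)) {F : P} {m : ℕ} (hF : F ∈ ℋ (m • 1)) :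
    deh l F = Away.mk ℋ (X_mem l) m F hF := by
  apply val_injective
  let R := Localization.Away (X l : P)
  have h1 : (deh l F).val = eval₂ ((algebraMap P R).comp C)
      (fun i => (Localization.mk (1 : P) (⟨X l, Submonoid.mem_powers _⟩ : Submonoid.powers (X l : P)) : R) *
        algebraMap P R (X i)) F := by
    rw [← HomogeneousLocalization.algebraMap_apply, deh, coe_eval₂Hom, eval₂_comp_left]
    congr 1
    funext i
    simp only [Function.comp_apply, HomogeneousLocalization.algebraMap_apply, Away.val_mk, pow_one]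
    rw [← Localization.mk_one_eq_algebraMap, Localization.mk_mul, one_mul, mul_one]
  have hm : F.IsHomogeneous m := by simpa using hF
  rw [h1, eval₂_smul _ _ hm, show eval₂ ((algebraMap P R).comp C) (fun i => algebraMap P R (X i)) F =
      algebraMap P R F from (eval₂_comp_left _ C X F).symm.trans (by rw [eval₂_eta]), Away.val_mk, ← Localization.mk_one_eq_algebraMap,
    Localization.mk_pow, Localization.mk_mul]
  simp

theorem isLocalizationElem_eq (l l' : Fin (N + 1)) :
    Away.isLocalizationElem (X_mem (A := A) l') (X_mem l) = deh l' (X l) := by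
  rw [deh, eval₂Hom_X']
  apply val_injective
  simp [Away.isLocalizationElem, Away.val_mk]

theorem awayMap_deh (l l' : Fin (N + 1)) {F : P} {m : ℕ} (hF : F.IsHomogeneous m) :
    awayMap ℋ (X_mem l) (mul_comm (X l) (X l')) (deh l' F) =
      awayMap ℋ (X_mem l) (mul_comm (X l) (X l')) (deh l' (X l)) ^ m *
        awayMap ℋ (X_mem l') (rfl : (X l : P) * X l' = X l * X l') (deh l F) := by
  have h0 : ∀ (x y g : P) (hg : g ∈ ℋ 1) (hxy : x = y * g) (a : A),
      awayMap ℋ hg hxy (awayC y a) = awayC x a := fun x y g hg hxy a => awayMap_fromZeroRingHom ..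
  simp only [deh, coe_eval₂Hom, eval₂_comp_left (awayMap ℋ _ _)]
  rw [show (awayMap ℋ (X_mem l) (mul_comm (X l : P) (X l'))).comp (awayC (X l')) =
      (awayMap ℋ (X_mem l') (rfl : (X l : P) * X l' = X l * X l')).comp (awayC (X l)) from
    RingHom.ext fun a => (h0 _ _ _ (X_mem l) (mul_comm (X l : P) (X l')) a).trans (h0 _ _ _ (X_mem l') rfl a).symm, ← eval₂_smul _ _ hF]
  congr 1
  funext i
  simp only [Function.comp_apply, eval₂_X]
  apply val_injective
  rw [val_mul, awayMap_mk, awayMap_mk, awayMap_mk, Away.val_mk, Away.val_mk, Away.val_mk, Localization.mk_mul,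
    Localization.mk_eq_mk_iff, Localization.r_iff_exists]
  exact ⟨1, by simp only [OneMemClass.coe_one, one_mul, Submonoid.coe_mul, pow_one]; ring⟩

variable {X' : Scheme.{u}} (ι : X' ⟶ Proj (CohB1.polyGrading N A))

/-- The pullback of a chart. -/
def chi (l : Fin (N + 1)) :
    Away ℋ (X l) →+* Γ(X', ι ⁻¹ᵁ Proj.basicOpen ℋ (X l)) :=
  (ι.app _).hom.comp (Proj.awayToSection ℋ (X l)).hom

/-- The ideal of forms vanishing on `X'`. -/
def idealOf : Ideal (MvPolynomial (Fin (N + 1)) A) :=
  ((⨅ l, RingHom.ker ((chi ι l).comp (deh l))).homogeneousCore ℋ).toIdeal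

theorem idealOf_isHomogeneous : (idealOf ι).IsHomogeneous ℋ := HomogeneousIdeal.isHomogeneous _

theorem chi_deh_eq_zero {F : P} (hF : F ∈ idealOf ι) (l : Fin (N + 1)) : chi ι l (deh l F) = 0 :=
  (Submodule.mem_iInf _).mp (Ideal.toIdeal_homogeneousCore_le ℋ _ hF) l

theorem mem_idealOf {F : P} {m : ℕ} (hF : F.IsHomogeneous m) (h : ∀ l, chi ι l (deh l F) = 0) :
    F ∈ idealOf ι :=
  Ideal.mem_homogeneousCore_of_homogeneous_of_mem ⟨m, hF⟩ ((Submodule.mem_iInf _).mpr h)

variable [IsClosedImmersion ι]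

/-- A form killed on one chart is killed on every other one after multiplying by a power of the variable. -/
theorem exists_pow_mul_eq_zero {l : Fin (N + 1)} {F : P} {m : ℕ} (hF : F.IsHomogeneous m)
    (h : chi ι l (deh l F) = 0) (l' : Fin (N + 1)) : ∃ e : ℕ, chi ι l' (deh l' (X l ^ e * F)) = 0 := by
  set U := Proj.basicOpen ℋ (X l : P)
  set U' := Proj.basicOpen ℋ (X l' : P)
  set W := Proj.basicOpen ℋ (X l * X l' : P)
  have hWU : W ≤ U := Proj.basicOpen_mono ℋ _ _ ⟨_, rfl⟩
  have hWU' : W ≤ U' := Proj.basicOpen_mono ℋ _ _ ⟨_, mul_comm _ _⟩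
  let χW : Away ℋ (X l * X l' : P) →+* Γ(X', ι ⁻¹ᵁ W) :=
    (ι.app W).hom.comp (Proj.awayToSection ℋ _).hom
  have hres : ∀ (f g : P) (hg : g ∈ ℋ 1) (hfg : (X l * X l' : P) = f * g) (hle : W ≤ Proj.basicOpen ℋ f)
      (a : Away ℋ f), χW (awayMap ℋ hg hfg a) =
        (X'.presheaf.map (homOfLE (ι.preimage_mono hle)).op).hom
          ((ι.app _).hom ((Proj.awayToSection ℋ f).hom a)) := by
    intro f g hg hfg hle a
    have e1 := ConcreteCategory.congr_hom (Proj.awayMap_awayToSection (𝒜 := ℋ) (f := f) (g_deg := hg) (hx := hfg)) a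
    simp only [CommRingCat.comp_apply, CommRingCat.ofHom_apply] at e1
    have e2 := ConcreteCategory.congr_hom (ι.naturality (homOfLE hle).op) ((Proj.awayToSection ℋ f).hom a)
    simp only [CommRingCat.comp_apply] at e2
    exact (congrArg (ι.app W).hom e1).trans e2
  have h1 : (X'.presheaf.map (homOfLE (ι.preimage_mono hWU')).op).hom (chi ι l' (deh l' F)) = 0 := by
    refine (hres _ _ (X_mem l) (mul_comm _ _) hWU' _).symm.trans ?_
    rw [awayMap_deh l l' hF, map_mul, hres _ _ (X_mem l') rfl hWU]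
    change _ * (X'.presheaf.map _).hom (chi ι l (deh l F)) = 0
    rw [h, map_zero, mul_zero]
  have hV : IsAffineOpen (ι ⁻¹ᵁ U') :=
    (ProjLib.isAffineOpen_basicOpen ℋ (X_mem l') one_pos).preimage ι
  set u := chi ι l' (deh l' (X l))
  have hb : X'.basicOpen u = ι ⁻¹ᵁ W := by
    rw [show u = (ι.app U').hom ((Proj.awayToSection ℋ _).hom (deh l' (X l))) from rfl,
      ← Scheme.preimage_basicOpen, ← isLocalizationElem_eq, ProjLib.basicOpen_awayToSection ℋ (X_mem l) (X_mem l') one_pos one_pos,
      mul_comm]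
  haveI := hV.isLocalization_basicOpen u
  have h2 : algebraMap Γ(X', ι ⁻¹ᵁ U') Γ(X', X'.basicOpen u) (chi ι l' (deh l' F)) = 0 := by
    have h3 := congrArg (X'.presheaf.map (homOfLE hb.le).op).hom h1
    rw [map_zero, ← CommRingCat.comp_apply, ← Functor.map_comp] at h3
    exact h3
  obtain ⟨⟨_, e, rfl⟩, he⟩ := (IsLocalization.map_eq_zero_iff (Submonoid.powers u) _ _).mp h2
  exact ⟨e, by simpa [u] using he⟩

/-- Points outside `X'` are separated from it by a form. -/
theorem exists_form_notMem {p : Proj ℋ} (hp : p ∉ Set.range ι) :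
    ∃ (F : P) (m : ℕ), F.IsHomogeneous m ∧ F ∈ idealOf ι ∧ p ∈ Proj.basicOpen ℋ F := by
  classical
  obtain ⟨l, hl⟩ : ∃ l, p ∈ Proj.basicOpen ℋ (X l : P) := by
    by_contra hc
    push Not at hc
    refine p.not_irrelevant_le ?_
    rw [HomogeneousIdeal.irrelevant_le]
    intro i hi q hq
    change q ∈ p.asHomogeneousIdeal.toIdeal
    rw [q.as_sum]
    refine sum_mem fun d hd => ?_
    obtain ⟨j, hj⟩ : ∃ j, d j ≠ 0 := by
      by_contra! h
      have := hq (mem_support_iff.1 hd)
      rw [show d = 0 from Finsupp.ext h, map_zero] at this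
      omega
    rw [show monomial d (coeff d q) = monomial (d - Finsupp.single j 1) (coeff d q) * X j by
      rw [X, monomial_mul, mul_one, tsub_add_cancel_of_le]
      exact Finsupp.single_le_iff.2 (Nat.one_le_iff_ne_zero.2 hj)]
    exact Ideal.mul_mem_left _ _ (not_not.mp (hc j))
  let U : (Proj ℋ).affineOpens :=
    ⟨Proj.basicOpen ℋ (X l : P), ProjLib.isAffineOpen_basicOpen ℋ (X_mem l) one_pos⟩
  have hsupp : p ∉ ι.ker.support := fun h => hp (by
    have := SetLike.mem_coe.mpr h
    rwa [Scheme.Hom.support_ker, ι.isClosedEmbedding.isClosed_range.closure_eq] at this)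
  rw [Scheme.IdealSheafData.mem_support_iff_of_mem (U := U) hl, Scheme.Hom.ker_apply,
    Scheme.mem_zeroLocus_iff] at hsupp
  push Not at hsupp
  obtain ⟨s, hs, hps⟩ := hsupp
  obtain ⟨a, rfl⟩ := (ProjLib.awayToSection_bijective ℋ (X_mem l) one_pos).2 s
  obtain ⟨k₀, F₀, hF₀, rfl⟩ := Away.mk_surjective ℋ (X_mem l) a
  set k := k₀ + 1 with hk
  set F := X l * F₀
  have hF : F ∈ ℋ (k • 1) := by
    have h' : F₀.IsHomogeneous k₀ := by simpa using hF₀
    have := (isHomogeneous_X A l).mul h'
    rw [show k • 1 = 1 + k₀ by rw [smul_eq_mul]; omega]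
    exact this
  have hFF : Away.mk ℋ (X_mem l) k₀ F₀ hF₀ = Away.mk ℋ (X_mem l) k F hF := val_injective _ (by
    rw [Away.val_mk, Away.val_mk, Localization.mk_eq_mk_iff, Localization.r_iff_exists]
    exact ⟨1, by simp only [OneMemClass.coe_one, one_mul, F, k]; ring⟩)
  rw [hFF] at hs hps
  have hF' : F.IsHomogeneous k := by simpa using hF
  have h0 : chi ι l (deh l F) = 0 := by
    rw [deh_form l hF]
    exact hs
  choose e he using exists_pow_mul_eq_zero ι hF' h0
  let E := ∑ l', e l'
  have hG : (X l ^ E * F).IsHomogeneous (E + k) := by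
    simpa using ((isHomogeneous_X A l).pow E).mul hF'
  refine ⟨X l ^ E * F, E + k, hG, mem_idealOf ι hG fun l' => ?_, ?_⟩
  · have hle : e l' ≤ E := Finset.single_le_sum (fun _ _ => Nat.zero_le _) (Finset.mem_univ l')
    rw [show X l ^ E * F = X l ^ (E - e l') * (X l ^ e l' * F) by
      conv_lhs => rw [← Nat.sub_add_cancel hle, pow_add, mul_assoc], map_mul, map_mul, he l', mul_zero]
  · intro hmem
    rcases p.isPrime.mem_or_mem hmem with h | h
    · exact hl (p.isPrime.mem_of_pow_mem E h)
    · have hb := ProjLib.basicOpen_awayToSection ℋ hF' (X_mem l) k₀.succ_pos one_pos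
      simp only [Away.isLocalizationElem, pow_one] at hb
      rw [hb] at hps
      exact hps (Ideal.mul_mem_left _ _ h)

end Groth.Agent.FlatCI
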