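import Groth.Agent.HomogIdeal.Basic
import Groth.Agent.GrAvoid.Basic

/-!
# Forms in an ideal cutting a cone down to the vertex
-/

set_option autoImplicit false
set_option linter.style.haveILetI false

universe u

namespace Groth.Agent.FlatCI

open MvPolynomial

variable {k : Type u} [Field k] {N : ℕ}

local notation "S" => MvPolynomial (Fin (N + 1)) k
local notation "ℋ" => CohB1.polyGrading N k

theorem length_le_dim {R : Type u} [CommRing R] {I : Ideal R} (l : LTSeries (PrimeSpectrum R))
    (h : I ≤ l.head.asIdeal) : (l.length : WithBot ℕ∞) ≤ ringKrullDim (R ⧸ I) := by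
  rw [ringKrullDim, Order.krullDim_eq_of_orderIso (Ideal.primeSpectrumQuotientOrderIsoZeroLocus I)]
  exact Order.le_krullDim_iff.2 ⟨⟨l.length, fun i => ⟨l i, h.trans (LTSeries.monotone l (Fin.zero_le i))⟩,
    fun i => l.step i⟩, rfl⟩

/-- An element avoiding the top components lowers the dimension. -/
theorem dim_quot_sup_le {R : Type u} [CommRing R] {I : Ideal R} {f : R} {m : ℕ}
    (hI : ringKrullDim (R ⧸ I) ≤ (m + 1 : ℕ))
    (hf : ∀ q ∈ I.minimalPrimes, f ∈ q → ringKrullDim (R ⧸ q) ≤ m) :
    ringKrullDim (R ⧸ (I ⊔ Ideal.span {f})) ≤ m := by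
  rw [ringKrullDim, Order.krullDim_eq_of_orderIso (Ideal.primeSpectrumQuotientOrderIsoZeroLocus _)]
  refine iSup_le fun s => ?_
  let l : LTSeries (PrimeSpectrum R) := s.map Subtype.val fun _ _ h => h
  have hhead : I ⊔ Ideal.span {f} ≤ l.head.asIdeal := s.head.2
  haveI := l.head.isPrime
  obtain ⟨q, hq, hql⟩ := Ideal.exists_minimalPrimes_le (le_sup_left.trans hhead)
  haveI := hq.1.1
  by_cases hfq : f ∈ q
  · exact (length_le_dim l hql).trans (hf q hq hfq)
  · have hlt : (⟨q, hq.1.1⟩ : PrimeSpectrum R) < l.head := lt_of_le_of_ne hql fun e =>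
      hfq (by
        have : q = l.head.asIdeal := congrArg PrimeSpectrum.asIdeal e
        rw [this]
        exact hhead (Ideal.mem_sup_right (Ideal.mem_span_singleton_self f)))
    have h1 := (length_le_dim (l.cons _ hlt) (show I ≤ _ from hq.1.2)).trans hI
    have h2 : s.length + 1 ≤ m + 1 := by
      simp only [RelSeries.cons_length, l, LTSeries.map_length] at h1
      exact_mod_cast h1
    exact_mod_cast Nat.le_of_succ_le_succ h2

theorem exists_forms (J : Ideal (MvPolynomial (Fin (N + 1)) k)) (hJ : J.IsHomogeneous ℋ) (n : ℕ)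
    (hdim : ringKrullDim (S ⧸ J) ≤ (n + 1 : ℕ)) :
    ∀ j, j ≤ N + 1 → ∃ (f : Fin j → S) (e : Fin j → ℕ), (∀ i, 0 < e i) ∧ (∀ i, (f i).IsHomogeneous (e i)) ∧
      (∀ i : Fin j, (i : ℕ) < N - n → f i ∈ J) ∧
      ringKrullDim (S ⧸ Ideal.span (Set.range f)) ≤ (N + 1 - j : ℕ) := by
  classical
  intro j
  induction j with
  | zero =>
    refine fun _ => ⟨Fin.elim0, Fin.elim0, fun i => i.elim0, fun i => i.elim0, fun i => i.elim0, ?_⟩
    rw [show Set.range (Fin.elim0 : Fin 0 → S) = ∅ from Set.range_eq_empty _, Ideal.span_empty,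
      ringKrullDim_eq_of_ringEquiv (RingEquiv.quotientBot S), MvPolynomial.ringKrullDim_of_isNoetherianRing,
      ringKrullDim_eq_zero_of_field]
    simp
  | succ j ih =>
    intro hj
    obtain ⟨f, e, he, hf, hfJ, hd⟩ := ih (by omega)
    obtain ⟨m, hm⟩ : ∃ m, N + 1 - j = m + 1 := ⟨N - j, by omega⟩
    set I := Ideal.span (Set.range f) with hI
    let B : Ideal S := if j < N - n then J else (HomogeneousIdeal.irrelevant ℋ).toIdeal
    have hB : B.IsHomogeneous ℋ := by
      dsimp only [B]
      split
      exacts [hJ, HomogeneousIdeal.isHomogeneous _]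
    let T := (I.finite_minimalPrimes_of_isNoetherianRing.subset
      (Set.sep_subset I.minimalPrimes fun q => ¬ ringKrullDim (S ⧸ q) ≤ m)).toFinset
    obtain ⟨g, d, hd0, hg, hgB, hgT⟩ := GrAvoid.exists_notMem ℋ B hB T fun q hq => by
      rw [Set.Finite.mem_toFinset] at hq
      obtain ⟨hqm, hqd⟩ := hq
      haveI := hqm.1.1
      have hM : ¬ (HomogeneousIdeal.irrelevant ℋ).toIdeal ≤ q := fun h => hqd (by
        rw [HomogIdeal.irrelevant_eq] at h
        rw [← (inferInstance : (HomogIdeal.mIdeal k N).IsMaximal).eq_of_le hqm.1.1.ne_top h]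
        letI := Ideal.Quotient.field (HomogIdeal.mIdeal k N)
        rw [ringKrullDim_eq_zero_of_field]
        exact_mod_cast m.zero_le)
      refine ⟨hqm.1.1, hM, ?_⟩
      dsimp only [B]
      split
      · rename_i hjn
        intro h
        refine hqd ((ringKrullDim_le_of_surjective (Ideal.Quotient.factor h)
          (Ideal.Quotient.factor_surjective h)).trans (hdim.trans ?_))
        exact_mod_cast (show n + 1 ≤ m by omega)
      · exact hM
    refine ⟨Fin.snoc f g, Fin.snoc e d, ?_, ?_, ?_, ?_⟩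
    · exact Fin.lastCases (by simpa using hd0) (by simpa using he)
    · exact Fin.lastCases (by simpa using hg) (by simpa using hf)
    · refine Fin.lastCases (fun hlt => ?_) (fun i hlt => by simpa using hfJ i (by simpa using hlt))
      simp only [Fin.val_last] at hlt
      simpa [B, hlt] using hgB
    · have hrange : Ideal.span (Set.range (Fin.snoc f g)) = I ⊔ Ideal.span {g} := by
        rw [Fin.range_snoc, Ideal.span_insert, sup_comm]
      rw [hrange, show N + 1 - (j + 1) = m by omega]
      refine dim_quot_sup_le (hd.trans (le_of_eq (by rw [hm]))) fun q hq hgq => ?_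
      by_contra hqd
      exact hgT q ((Set.Finite.mem_toFinset _).mpr ⟨hq, hqd⟩) hgq

end Groth.Agent.FlatCI
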