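import Groth.Prelude.Def_CohB1
import Groth.Agent.S3554

/-!
# The fibres of projective space over an affine base
-/

set_option autoImplicit false
set_option linter.style.haveILetI false
set_option backward.isDefEq.respectTransparency false
set_option backward.isDefEq.respectTransparency.types false

universe u

open CategoryTheory CategoryTheory.Limits AlgebraicGeometry Topology

noncomputable section

namespace Groth.Agent.FlatCI

variable {A : Type u} [CommRing A] (N : ℕ) (K : Type u) [Field K] [Algebra A K]

theorem exists_fibre {p : ↥(Spec (CommRingCat.of A))}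
    [IsPreimmersion (Spec.map (CommRingCat.ofHom (algebraMap A K)))]
    (hp : Set.range (Spec.map (CommRingCat.ofHom (algebraMap A K))) = {p}) :
    ∃ q : Proj (CohB1.polyGrading N K) ⟶ Proj (CohB1.polyGrading N A),
      IsEmbedding q ∧ Set.range q = CohB1.ProjSpace.toSpec N A ⁻¹' {p} ∧
      ∀ F : MvPolynomial (Fin (N + 1)) A, q ⁻¹ᵁ Proj.basicOpen _ F =
        Proj.basicOpen _ (MvPolynomial.map (algebraMap A K) F) := by
  let φ : CohB1.polyGrading N A →+*ᵍ CohB1.polyGrading N K :=
    { MvPolynomial.map (algebraMap A K) with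
      map_mem := fun {i} x hx => MvPolynomial.IsHomogeneous.map hx _ }
  letI : Algebra (MvPolynomial (Fin (N + 1)) A) (MvPolynomial (Fin (N + 1)) K) :=
    MvPolynomial.algebraMvPolynomial
  have hφ : HomogeneousIdeal.irrelevant (CohB1.polyGrading N K) ≤
      (HomogeneousIdeal.irrelevant (CohB1.polyGrading N A)).map φ := by
    rw [HomogeneousIdeal.irrelevant_le]
    intro i hi P hP
    rw [P.as_sum]
    refine sum_mem fun d hd => ?_
    have hd0 : d ≠ 0 := by
      rintro rfl
      have := hP (MvPolynomial.mem_support_iff.1 hd)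
      simp at this
      omega
    obtain ⟨j, hj⟩ : ∃ j, d j ≠ 0 := by
      by_contra! h
      exact hd0 (Finsupp.ext h)
    rw [show MvPolynomial.monomial d (MvPolynomial.coeff d P) =
        MvPolynomial.monomial (d - Finsupp.single j 1) (MvPolynomial.coeff d P) *
          φ (MvPolynomial.X j) by
      show _ = _ * MvPolynomial.map (algebraMap A K) (MvPolynomial.X j)
      rw [MvPolynomial.map_X, MvPolynomial.X, MvPolynomial.monomial_mul, mul_one, tsub_add_cancel_of_le]
      exact Finsupp.single_le_iff.2 (Nat.one_le_iff_ne_zero.2 hj)]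
    exact Ideal.mul_mem_left _ _ (Ideal.mem_map_of_mem _
      (HomogeneousIdeal.mem_irrelevant_of_mem _ one_pos (MvPolynomial.isHomogeneous_X A j)))
  have h : IsPullback (Proj.map φ hφ) (CohB1.ProjSpace.toSpec N K) (CohB1.ProjSpace.toSpec N A)
      (Spec.map (CommRingCat.ofHom (algebraMap A K))) :=
    Groth.Agent.S3554.result (R := K) (R' := A) (CohB1.polyGrading N A) (CohB1.polyGrading N K) φ (fun b => rfl) hφ
  haveI : IsPreimmersion (Proj.map φ hφ) := MorphismProperty.of_isPullback h.flip inferInstance
  refine ⟨Proj.map φ hφ, Scheme.Hom.isEmbedding _, ?_, fun F => Proj.map_preimage_basicOpen φ hφ F⟩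
  refine subset_antisymm ?_ fun x hx => ?_
  · rintro _ ⟨y, rfl⟩
    have e := congrArg (fun m => m y) h.w
    simp only [Scheme.Hom.comp_apply] at e
    refine hp.subset ⟨(CohB1.ProjSpace.toSpec N K) y, e.symm⟩
  · obtain ⟨y, hy⟩ : p ∈ Set.range (Spec.map (CommRingCat.ofHom (algebraMap A K))) := hp ▸ rfl
    obtain ⟨z, hz, -⟩ := Scheme.Pullback.exists_preimage_pullback (f := CohB1.ProjSpace.toSpec N A)
      (g := Spec.map (CommRingCat.ofHom (algebraMap A K))) x y (hx.trans hy.symm)
    refine ⟨h.isoPullback.inv z, ?_⟩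
    rw [← hz, ← Scheme.Hom.comp_apply, h.isoPullback_inv_fst]
    rfl

theorem residueField_point (p : PrimeSpectrum A) :
    IsPreimmersion (Spec.map (CommRingCat.ofHom (algebraMap A p.asIdeal.ResidueField))) ∧
      Set.range (Spec.map (CommRingCat.ofHom (algebraMap A p.asIdeal.ResidueField))) = {p} := by
  have e := Scheme.Spec.map_residueFieldIso_inv_eq_fromSpecResidueField (R := CommRingCat.of A) (x := p)
  have e' : Spec.map (CommRingCat.ofHom (algebraMap A p.asIdeal.ResidueField)) =
      inv (Spec.map (Scheme.Spec.residueFieldIso (CommRingCat.of A) p).inv) ≫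
        (Spec (CommRingCat.of A)).fromSpecResidueField p := by
    rw [← e]; simp
  rw [e']
  refine ⟨inferInstance, ?_⟩
  ext z
  constructor
  · rintro ⟨y, rfl⟩
    rw [Scheme.Hom.comp_apply]
    exact (Scheme.range_fromSpecResidueField (X := Spec (CommRingCat.of A)) p).subset (Set.mem_range_self _)
  · intro hz
    obtain ⟨y, hy⟩ := (Scheme.range_fromSpecResidueField (X := Spec (CommRingCat.of A)) p).superset hz
    exact ⟨Spec.map (Scheme.Spec.residueFieldIso (CommRingCat.of A) p).inv y, by
      rw [← Scheme.Hom.comp_apply, ← hy]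
      simp⟩

theorem closedPoint_residue [IsLocalRing A] :
    IsPreimmersion (Spec.map (CommRingCat.ofHom (algebraMap A (IsLocalRing.ResidueField A)))) ∧
      Set.range (Spec.map (CommRingCat.ofHom (algebraMap A (IsLocalRing.ResidueField A)))) =
        {IsLocalRing.closedPoint A} := by
  haveI : IsClosedImmersion (Spec.map (CommRingCat.ofHom (algebraMap A (IsLocalRing.ResidueField A)))) :=
    IsClosedImmersion.spec_of_surjective _ Ideal.Quotient.mk_surjective
  refine ⟨inferInstance, ?_⟩
  ext x
  constructor
  · rintro ⟨y, rfl⟩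
    refine PrimeSpectrum.ext ?_
    change y.asIdeal.comap (algebraMap A (IsLocalRing.ResidueField A)) = IsLocalRing.maximalIdeal A
    rw [Ideal.eq_bot_of_prime y.asIdeal, ← RingHom.ker_eq_comap_bot]
    exact IsLocalRing.ker_residue
  · rintro rfl
    refine ⟨(⊥ : PrimeSpectrum (IsLocalRing.ResidueField A)), PrimeSpectrum.ext ?_⟩
    change (⊥ : Ideal _).comap (algebraMap A (IsLocalRing.ResidueField A)) = IsLocalRing.maximalIdeal A
    rw [← RingHom.ker_eq_comap_bot]
    exact IsLocalRing.ker_residue

end Groth.Agent.FlatCI
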