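import Mathlib
import Groth.Prelude.Def_GrQuot

/-!
# `Proj` of a graded algebra with flat graded pieces is flat
-/

set_option autoImplicit false
set_option linter.style.haveILetI false
set_option backward.isDefEq.respectTransparency false

universe u

open HomogeneousLocalization AlgebraicGeometry CategoryTheory

namespace Groth.Agent.FlatCI

variable {A B : Type u} [CommRing A] [CommRing B] [Algebra A B] (ℬ : ℕ → Submodule A B) [GradedAlgebra ℬ]

theorem away_flat (hflat : ∀ m, Module.Flat A (ℬ m)) {x : B} {d : ℕ} (hx : x ∈ ℬ d) :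
    ((fromZeroRingHom ℬ (Submonoid.powers x)).comp (algebraMap A (ℬ 0))).Flat := by
  classical
  let φ : A →+* Away ℬ x := (fromZeroRingHom ℬ (Submonoid.powers x)).comp (algebraMap A (ℬ 0))
  letI : Algebra A (Away ℬ x) := φ.toAlgebra
  change Module.Flat A (Away ℬ x)
  have hsmul : ∀ (a : A) (k : ℕ) (b : B) (hb : b ∈ ℬ (k • d)),
      φ a * Away.mk ℬ hx k b hb = Away.mk ℬ hx k (a • b) (Submodule.smul_mem _ a hb) := by
    intro a k b hb
    apply HomogeneousLocalization.val_injective
    rw [HomogeneousLocalization.val_mul, Away.val_mk, Away.val_mk]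
    change Localization.mk (algebraMap A B a) ⟨1, one_mem _⟩ * _ = _
    rw [Localization.mk_mul]
    simp only [Algebra.smul_def, Submonoid.mk_mul_mk, one_mul]
  let ψ : ∀ k : ℕ, ℬ (k • d) →ₗ[A] Away ℬ x := fun k =>
    { toFun := fun b => Away.mk ℬ hx k b b.2
      map_add' := fun b c => by
        apply HomogeneousLocalization.val_injective
        rw [HomogeneousLocalization.val_add, Away.val_mk, Away.val_mk, Away.val_mk, Localization.add_mk_self,
          Submodule.coe_add]
      map_smul' := fun a b => (hsmul a k b b.2).symm }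
  have hraise : ∀ (k e : ℕ) (b : ℬ (k • d)), Away.mk ℬ hx (e + k) (x ^ e * (b : B))
      (by rw [add_smul]; exact SetLike.mul_mem_graded (SetLike.pow_mem_graded e hx) b.2) = ψ k b := by
    intro k e b
    apply HomogeneousLocalization.val_injective
    change _ = (Away.mk ℬ hx k (b : B) b.2).val
    rw [Away.val_mk, Away.val_mk, Localization.mk_eq_mk_iff, Localization.r_iff_exists]
    exact ⟨1, by simp only [OneMemClass.coe_one, one_mul]; ring⟩
  refine Module.Flat.of_forall_isTrivialRelation fun {l} {f z} hz => ?_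
  -- common denominator
  have hex : ∀ i, ∃ k : ℕ, ∃ b : ℬ (k • d), ψ k b = z i := fun i => by
    obtain ⟨k, b, hb, h⟩ := Away.mk_surjective ℬ hx (z i)
    exact ⟨k, ⟨b, hb⟩, h⟩
  choose k b hb using hex
  let K := ∑ i, k i
  have hkK : ∀ i, k i ≤ K := fun i => Finset.single_le_sum (fun _ _ => Nat.zero_le _) (Finset.mem_univ i)
  let b' : Fin l → ℬ (K • d) := fun i => ⟨x ^ (K - k i) * (b i : B), by
    have := SetLike.mul_mem_graded (SetLike.pow_mem_graded (K - k i) hx) (b i).2
    rwa [← add_smul, Nat.sub_add_cancel (hkK i)] at this⟩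
  have hb' : ∀ i, ψ K (b' i) = z i := fun i => by
    rw [← hb i, ← hraise (k i) (K - k i) (b i)]
    change Away.mk ℬ hx K _ _ = _
    congr 1
    rw [Nat.sub_add_cancel (hkK i)]
  -- the relation in a single degree
  have h0 : ψ K (∑ i, f i • b' i) = 0 := by
    rw [map_sum]
    simp only [LinearMap.map_smul, hb']
    exact hz
  have h1 := congrArg HomogeneousLocalization.val h0
  change (Away.mk ℬ hx K _ _).val = _ at h1
  rw [Away.val_mk, HomogeneousLocalization.val_zero, Localization.mk_eq_mk', IsLocalization.mk'_eq_zero_iff] at h1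
  obtain ⟨⟨_, e, rfl⟩, he⟩ := h1
  let c : Fin l → ℬ ((e + K) • d) := fun i => ⟨x ^ e * (b' i : B), by
    rw [add_smul]; exact SetLike.mul_mem_graded (SetLike.pow_mem_graded e hx) (b' i).2⟩
  have hc : ∑ i, f i • c i = 0 := by
    refine Subtype.ext ?_
    rw [AddSubmonoidClass.coe_finsetSum] at he ⊢
    simp only [Submodule.coe_zero, SetLike.val_smul, c] at he ⊢
    rw [Finset.mul_sum] at he
    simpa [mul_smul_comm] using he
  haveI := hflat ((e + K) • d)
  obtain ⟨r, a, y, hy, ha⟩ := Module.Flat.isTrivialRelation_of_sum_smul_eq_zero hc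
  refine ⟨r, a, fun j => ψ (e + K) (y j), fun i => ?_, ha⟩
  simp only [← LinearMap.map_smul, ← map_sum, ← hy]
  rw [← hb' i]
  exact (hraise K e (b' i)).symm

theorem proj_flat (hflat : ∀ m, Module.Flat A (ℬ m)) :
    Flat (Proj.toSpecZero ℬ ≫ Spec.map (CommRingCat.ofHom (algebraMap A (ℬ 0)))) := by
  rw [IsZariskiLocalAtSource.iff_of_openCover (P := @Flat) (Proj.affineOpenCover ℬ).openCover]
  intro i
  have : (Proj.affineOpenCover ℬ).openCover.f i = Proj.awayι ℬ (i.2 : B) i.2.2 i.1.2 := rfl
  rw [this, ← Category.assoc, Proj.awayι_toSpecZero, ← Spec.map_comp, HasRingHomProperty.Spec_iff (P := @Flat)]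
  exact away_flat ℬ hflat i.2.2

end Groth.Agent.FlatCI
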