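import Groth.Agent.FlatCI.Vanish
import Groth.Agent.FlatCI.Choose
import Groth.Agent.FlatCI.Chart
import Groth.Agent.FlatCI.Fibre
import Groth.Agent.FlatCI.Flat
import Groth.Agent.ProjCut.Basic
import Groth.Agent.RelProjLib.ProjMap

/-!
# A closed subscheme of projective space over a local ring lies in a flat one of the same dimension
-/

set_option autoImplicit false
set_option linter.style.haveILetI false
set_option backward.isDefEq.respectTransparency false

universe u

open CategoryTheory CategoryTheory.Limits AlgebraicGeometry Topology MvPolynomial HomogeneousLocalization IsLocalRing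

noncomputable section

namespace Groth.Agent.FlatCI

theorem dim_le_of_range_subset {Y W Z : Type*} [TopologicalSpace Y] [TopologicalSpace W] [TopologicalSpace Z]
    {g : W → Y} (hg : IsInducing g) {e : Z → Y} (he : IsEmbedding e) (h : Set.range g ⊆ Set.range e) :
    topologicalKrullDim W ≤ topologicalKrullDim Z := by
  have h1 : IsInducing (Set.codRestrict g (Set.range e) fun w => h ⟨w, rfl⟩) :=
    hg.codRestrict _
  exact (he.toHomeomorph.symm.isInducing.comp h1).topologicalKrullDim_le

section Field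

variable {K : Type u} [Field K] {m : ℕ}

/-- A subset missed by at most `b + 1` hypersurfaces has dimension at most `b`. -/
theorem dim_le_of_disjoint {W : Set (ProjectiveSpectrum (CohB1.polyGrading m K))} (hW : IsClosed W) {r b : ℕ}
    (hr : r ≤ b + 1) (g : Fin r → MvPolynomial (Fin (m + 1)) K) (hg : ∀ i, ∃ d, 0 < d ∧ (g i).IsHomogeneous d)
    (h : W ∩ ProjectiveSpectrum.zeroLocus (CohB1.polyGrading m K) (Set.range g) = ∅) :
    topologicalKrullDim ↥W ≤ b := by
  refine Cones.le_of_forall fun k hk => ?_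
  by_contra hkb
  have hbk : b + 1 ≤ k := by
    by_contra hlt
    exact hkb (by exact_mod_cast (show k ≤ b by omega))
  haveI : QuasiSober ↥W := hW.isClosedEmbedding_subtypeVal.quasiSober
  obtain ⟨c, hc⟩ := Unibranch.exists_chain_of_le_topologicalKrullDim (α := ↥W) hk
  have hall : ∀ i, c 0 ⤳ c i := fun i => by
    induction i using Fin.induction with
    | zero => exact specializes_refl _
    | succ i ih => exact ih.trans (hc i).1
  let Z : Set (ProjectiveSpectrum (CohB1.polyGrading m K)) := closure {(c 0).1}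
  have hZW : Z ⊆ W := closure_minimal (Set.singleton_subset_iff.mpr (c 0).2) hW
  haveI : QuasiSober ↥Z := (isClosed_closure : IsClosed Z).isClosedEmbedding_subtypeVal.quasiSober
  have hZ := Unibranch.natCast_le_topologicalKrullDim (α := ↥Z)
    (fun i => ⟨(c i).1, ((subtype_specializes_iff _ _).mp (hall i)).mem_closure⟩)
    fun i => ⟨(subtype_specializes_iff _ _).mpr ((hc i).1.map continuous_subtype_val),
      fun e => (hc i).2 (Subtype.ext (congrArg (fun z : ↥Z => z.1) e))⟩
  obtain ⟨z, hz, hz'⟩ := ProjCut.nonempty_inter isClosed_closure isIrreducible_singleton.closure g hg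
    (le_trans (Nat.cast_le.mpr (hr.trans hbk)) hZ)
  exact h.subset ⟨hZW hz, hz'⟩

/-- The dimension of a cone bounded by that of the projective set. -/
theorem cone_le {I : Ideal (MvPolynomial (Fin (m + 1)) K)} (hI : I.IsHomogeneous (CohB1.polyGrading m K)) {b : ℕ}
    (h : topologicalKrullDim ↥(ProjectiveSpectrum.zeroLocus (CohB1.polyGrading m K) (I : Set _)) ≤ b) :
    ringKrullDim (MvPolynomial (Fin (m + 1)) K ⧸ I) ≤ (b + 1 : ℕ) := by
  set Z := ProjectiveSpectrum.zeroLocus (CohB1.polyGrading m K) (I : Set _) with hZ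
  by_cases hne : Z.Nonempty
  · refine (Cones.le_topDim_succ hI (Cones.ne_top_of_nonempty hne) (ProjectiveSpectrum.isClosed_zeroLocus _ _)
      hne subset_rfl).trans ?_
    push_cast
    exact add_le_add h le_rfl
  · refine le_trans ?_ (by exact_mod_cast Nat.zero_le (b + 1) : (0 : WithBot ℕ∞) ≤ ((b + 1 : ℕ) : WithBot ℕ∞))
    rw [ringKrullDim, Order.krullDim_eq_of_orderIso (Ideal.primeSpectrumQuotientOrderIsoZeroLocus I)]
    have hM : ∀ x : PrimeSpectrum.zeroLocus (I : Set (MvPolynomial (Fin (m + 1)) K)),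
        x.1.asIdeal = HomogIdeal.mIdeal K m := fun x => by
      haveI := x.1.isPrime
      obtain ⟨p, hp, hpx⟩ := Ideal.exists_minimalPrimes_le (show I ≤ x.1.asIdeal from x.2)
      haveI := hp.1.1
      have hph := HomogIdeal.isHomogeneous_of_mem_minimalPrimes hI hp
      have hpm : p = HomogIdeal.mIdeal K m := by
        refine le_antisymm (HomogIdeal.le_mIdeal hph hp.1.1.ne_top) ?_
        by_contra hnle
        exact hne ⟨⟨⟨p, hph⟩, hp.1.1, fun hirr => hnle (HomogIdeal.irrelevant_eq (k := K) ▸ hirr)⟩, hp.1.2⟩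
      exact ((HomogIdeal.mIdeal_isMaximal (k := K)).eq_of_le x.1.isPrime.ne_top (hpm ▸ hpx)).symm
    haveI : Subsingleton (PrimeSpectrum.zeroLocus (I : Set (MvPolynomial (Fin (m + 1)) K))) :=
      ⟨fun x y => Subtype.ext (PrimeSpectrum.ext ((hM x).trans (hM y).symm))⟩
    exact Order.krullDim_nonpos_of_subsingleton

end Field

theorem map_isHomogeneous {A K : Type u} [CommRing A] [CommRing K] (ρ : A →+* K) {N : ℕ}
    {J : Ideal (MvPolynomial (Fin (N + 1)) A)} (hJ : J.IsHomogeneous (CohB1.polyGrading N A)) :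
    (J.map (MvPolynomial.map ρ)).IsHomogeneous (CohB1.polyGrading N K) := by
  have he : J.map (MvPolynomial.map ρ) = Ideal.span (MvPolynomial.map ρ '' {F | F ∈ J ∧ ∃ d, F.IsHomogeneous d}) := by
    refine le_antisymm (Ideal.map_le_iff_le_comap.mpr fun a ha => ?_) (Ideal.span_le.mpr ?_)
    · rw [Ideal.mem_comap, ← sum_homogeneousComponent a, map_sum]
      exact sum_mem fun i _ => Ideal.subset_span
        ⟨_, ⟨component_mem hJ ha i, i, homogeneousComponent_isHomogeneous i a⟩, rfl⟩
    · rintro _ ⟨F, hF, rfl⟩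
      exact Ideal.mem_map_of_mem _ hF.1
  rw [he]
  exact Ideal.homogeneous_span _ _ (by
    rintro _ ⟨F, ⟨-, d, hF⟩, rfl⟩
    exact ⟨d, (mem_homogeneousSubmodule _ _).mpr (hF.map ρ)⟩)

variable {A : Type u} [CommRing A] [IsLocalRing A] {N n : ℕ}

local notation "P" => MvPolynomial (Fin (N + 1)) A
local notation "ℋ" => CohB1.polyGrading N A

theorem cone_closedFibre {X' : Scheme.{u}} (ι : X' ⟶ Proj (CohB1.polyGrading N A)) [IsClosedImmersion ι]
    (hdim : ∀ s, topologicalKrullDim ↥((ι ≫ CohB1.ProjSpace.toSpec N A).fiber s) ≤ n) :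
    ringKrullDim (MvPolynomial (Fin (N + 1)) (ResidueField A) ⧸
      (idealOf ι).map (MvPolynomial.map (residue A))) ≤ (n + 1 : ℕ) := by
  obtain ⟨h1, h2⟩ := closedPoint_residue (A := A)
  obtain ⟨q, hq, hrange, hpre⟩ := exists_fibre N (ResidueField A) h2
  refine cone_le (map_isHomogeneous _ (idealOf_isHomogeneous ι)) (le_trans ?_ (hdim (closedPoint A)))
  let f := ι ≫ CohB1.ProjSpace.toSpec N A
  refine le_trans (dim_le_of_range_subset (g := fun y => q (Subtype.val y))
    (e := fun x : (f ⁻¹' {closedPoint A}) => ι x.1) (hq.isInducing.comp IsInducing.subtypeVal)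
    (ι.isEmbedding.comp IsEmbedding.subtypeVal) ?_) (le_of_eq ?_)
  · rintro _ ⟨y, rfl⟩
    have hy : q y.1 ∈ Set.range ι := by
      by_contra hc
      obtain ⟨F, d, -, hFJ, hmem⟩ := exists_form_notMem ι hc
      have hm : y.1 ∈ q ⁻¹ᵁ Proj.basicOpen ℋ F := hmem
      rw [hpre] at hm
      exact hm (y.2 (Ideal.mem_map_of_mem _ hFJ))
    obtain ⟨x, hx⟩ := hy
    refine ⟨⟨x, ?_⟩, hx⟩
    have hp : q y.1 ∈ CohB1.ProjSpace.toSpec N A ⁻¹' {closedPoint A} := hrange.subset ⟨y.1, rfl⟩
    rw [← hx] at hp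
    exact hp
  · exact (IsHomeomorph.topologicalKrullDim_eq _ (f.fiberHomeo (closedPoint A)).isHomeomorph).symm

theorem exists_lifts {J : Ideal P} (hJ : J.IsHomogeneous ℋ) {c : ℕ} (f : Fin c → MvPolynomial (Fin (N + 1)) (ResidueField A))
    (e : Fin c → ℕ) (hf : ∀ i, (f i).IsHomogeneous (e i)) :
    ∀ i, ∃ F : P, F.IsHomogeneous (e i) ∧ MvPolynomial.map (residue A) F = f i ∧
      (f i ∈ J.map (MvPolynomial.map (residue A)) → F ∈ J) := by
  intro i
  have hs : Function.Surjective (MvPolynomial.map (σ := Fin (N + 1)) (residue A)) :=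
    MvPolynomial.map_surjective _ Ideal.Quotient.mk_surjective
  have hcomp : ∀ a : P, MvPolynomial.map (residue A) a = f i →
      MvPolynomial.map (residue A) (homogeneousComponent (e i) a) = f i := fun a ha => by
    conv_rhs => rw [← component_self (hf i), ← ha]
    refine MvPolynomial.ext _ _ fun d => ?_
    simp only [coeff_map, coeff_homogeneousComponent]
    split_ifs <;> simp
  by_cases h : f i ∈ J.map (MvPolynomial.map (residue A))
  · obtain ⟨a, ha, hai⟩ := (Ideal.mem_map_iff_of_surjective _ hs).mp h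
    exact ⟨_, homogeneousComponent_isHomogeneous _ a, hcomp a hai, fun _ => component_mem hJ ha _⟩
  · obtain ⟨a, hai⟩ := hs (f i)
    exact ⟨_, homogeneousComponent_isHomogeneous _ a, hcomp a hai, fun h' => absurd h' h⟩

theorem exists_thickening [IsNoetherianRing A] {X' : Scheme.{u}} (ι : X' ⟶ Proj (CohB1.polyGrading N A))
    [IsClosedImmersion ι] (hdim : ∀ s, topologicalKrullDim ↥((ι ≫ CohB1.ProjSpace.toSpec N A).fiber s) ≤ n) :
    ∃ (Z : Scheme.{u}) (j : Z ⟶ Proj (CohB1.polyGrading N A)) (g : X' ⟶ Z),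
      IsClosedImmersion j ∧ IsClosedImmersion g ∧ g ≫ j = ι ∧
      Flat (j ≫ CohB1.ProjSpace.toSpec N A) ∧
      ∀ s, topologicalKrullDim ↥((j ≫ CohB1.ProjSpace.toSpec N A).fiber s) ≤ n := by
  obtain ⟨f, e, he, hf, hfJ, hfdim⟩ := exists_forms _ (map_isHomogeneous _ (idealOf_isHomogeneous ι)) n
    (cone_closedFibre ι hdim) (N + 1) le_rfl
  choose F hF hFf hFJ using exists_lifts (idealOf_isHomogeneous ι) f e hf
  have hdim0 : ringKrullDim (MvPolynomial (Fin (N + 1)) (ResidueField A) ⧸
      Ideal.span (Set.range fun i => MvPolynomial.map (residue A) (F i))) ≤ 0 := by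
    rw [show (fun i => MvPolynomial.map (residue A) (F i)) = f from funext hFf]
    simpa using hfdim
  obtain ⟨D, hD⟩ := exists_pow_X_mem F e he hF hdim0
  set c := N - n with hc
  let I := pre F c
  haveI : GrQuot.IsHomog ℋ I := (GrQuot.isHomog_iff _ _).mpr (pre_isHomogeneous F e hF c)
  let ψ : CohB1.polyGrading N A →+*ᵍ GrQuot.quot ℋ I :=
    { Ideal.Quotient.mk I with
      map_mem := fun {i} x hx => GrQuot.mk_mem_quot _ _ hx }
  have hψs : Function.Surjective ψ := Ideal.Quotient.mk_surjective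
  have hψ := ProjLib.irrelevant_le_map_of_surjective ℋ ψ hψs
  let j := Proj.map ψ hψ
  haveI hj : IsClosedImmersion j := ProjLib.isClosedImmersion_map ℋ ψ hψ hψs
  have hIJ : I ≤ idealOf ι := Ideal.span_le.mpr (by
    rintro _ ⟨i, hi, rfl⟩
    exact hFJ i (hfJ i hi))
  have hker : j.ker ≤ ι.ker := by
    refine Scheme.IdealSheafData.le_of_iSup_eq_top
      (fun l : Fin (N + 1) => (⟨Proj.basicOpen ℋ (X l : P),
        ProjLib.isAffineOpen_basicOpen ℋ (X_mem l) one_pos⟩ : (Proj ℋ).affineOpens))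
      (top_le_iff.mp fun p _ => ?_) fun l => ?_
    · refine TopologicalSpace.Opens.mem_iSup.mpr ?_
      by_contra hcon
      push Not at hcon
      refine p.not_irrelevant_le ?_
      rw [HomogeneousIdeal.irrelevant_le]
      intro i hi q hq
      change q ∈ p.asHomogeneousIdeal.toIdeal
      rw [q.as_sum]
      refine sum_mem fun d hd => ?_
      obtain ⟨k, hk⟩ : ∃ k, d k ≠ 0 := by
        by_contra! h
        have := hq (mem_support_iff.1 hd)
        rw [show d = 0 from Finsupp.ext h, map_zero] at this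
        omega
      rw [show monomial d (coeff d q) = monomial (d - Finsupp.single k 1) (coeff d q) * X k by
        rw [X, monomial_mul, mul_one, tsub_add_cancel_of_le]
        exact Finsupp.single_le_iff.2 (Nat.one_le_iff_ne_zero.2 hk)]
      exact Ideal.mul_mem_left _ _ (not_not.mp (hcon k))
    · rw [Scheme.Hom.ker_apply, Scheme.Hom.ker_apply]
      intro s hs
      obtain ⟨a, rfl⟩ := (ProjLib.awayToSection_bijective ℋ (X_mem l) one_pos).2 s
      obtain ⟨k, G, hG, rfl⟩ := Away.mk_surjective ℋ (X_mem l) a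
      have h1 : (Proj.awayToSection (GrQuot.quot ℋ I) (ψ (X l))).hom
          (Away.map ψ (X l) (Away.mk ℋ (X_mem l) k G hG)) = 0 :=
        (ProjLib.map_app_awayToSection ℋ ψ hψ (X_mem l) _).symm.trans hs
      have h2 := (ProjLib.awayToSection_bijective _ (Graded.map_mem ψ (X_mem l)) one_pos).1
        (h1.trans (map_zero _).symm)
      obtain ⟨r, hr⟩ := (ProjLib.away_map_mk_eq_zero_iff ℋ ψ (X_mem l) k G hG).mp h2
      have h3 : X l ^ r * G ∈ idealOf ι := hIJ (Ideal.Quotient.eq_zero_iff_mem.mp hr)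
      have h4 := chi_deh_eq_zero ι h3 l
      rw [map_mul, map_pow, deh_form l hG] at h4
      rw [show deh l (X l) = 1 by
        rw [deh, eval₂Hom_X']
        exact val_injective _ (by simp [Away.val_mk]), one_pow, one_mul] at h4
      exact h4
  let g := IsClosedImmersion.lift j ι hker
  have hg : g ≫ j = ι := IsClosedImmersion.lift_fac _ _ _
  haveI : IsClosedImmersion (g ≫ j) := hg ▸ inferInstance
  have hcle : c ≤ N + 1 := by omega
  refine ⟨Proj (GrQuot.quot ℋ I), j, g, hj, IsClosedImmersion.of_comp_isClosedImmersion g j, hg, ?_, ?_⟩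
  · have hflat := proj_flat (GrQuot.quot ℋ I) fun d => by
      haveI := free_quot_of_zeroDim F e he hF hdim0 c hcle d
      infer_instance
    rw [show CohB1.ProjSpace.toSpec N A = Proj.toSpecZero ℋ ≫ Spec.map (CommRingCat.ofHom (algebraMap A (ℋ 0)))
      from rfl, RelProjLib.map_toSpecZero_assoc, ← Spec.map_comp]
    exact hflat
  · intro s
    set h := j ≫ CohB1.ProjSpace.toSpec N A with hh
    obtain ⟨hpre1, hrng⟩ := residueField_point (A := A) s
    obtain ⟨q, hq, hrange, hpre⟩ := exists_fibre N s.asIdeal.ResidueField hrng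
    let φ := MvPolynomial.map (σ := Fin (N + 1)) (algebraMap A s.asIdeal.ResidueField)
    let Fc : Fin c → MvPolynomial (Fin (N + 1)) s.asIdeal.ResidueField := fun i => φ (F (Fin.castLE hcle i))
    let W := ProjectiveSpectrum.zeroLocus (CohB1.polyGrading N s.asIdeal.ResidueField) (Set.range Fc)
    have hW : IsClosed W := ProjectiveSpectrum.isClosed_zeroLocus _ _
    refine le_trans (le_trans (le_of_eq (IsHomeomorph.topologicalKrullDim_eq _ (h.fiberHomeo s).isHomeomorph))
      (dim_le_of_range_subset (g := fun z : (h ⁻¹' {s}) => j z.1) (e := fun y : W => q y.1)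
        (j.isEmbedding.isInducing.comp IsInducing.subtypeVal) (hq.comp IsEmbedding.subtypeVal) ?_)) ?_
    · rintro _ ⟨z, rfl⟩
      obtain ⟨y, hy⟩ := hrange.superset (show j z.1 ∈ CohB1.ProjSpace.toSpec N A ⁻¹' {s} from z.2)
      refine ⟨⟨y, ?_⟩, hy⟩
      rintro _ ⟨i, rfl⟩
      by_contra hc
      have hy2 : y ∈ q ⁻¹ᵁ Proj.basicOpen ℋ (F (Fin.castLE hcle i)) := by rw [hpre]; exact hc
      have hz : z.1 ∈ j ⁻¹ᵁ Proj.basicOpen ℋ (F (Fin.castLE hcle i)) := by
        change j z.1 ∈ Proj.basicOpen ℋ (F (Fin.castLE hcle i))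
        rw [← hy]
        exact hy2
      rw [Proj.map_preimage_basicOpen] at hz
      refine hz (show ψ (F (Fin.castLE hcle i)) ∈ z.1.asHomogeneousIdeal.toIdeal from ?_)
      rw [show ψ (F (Fin.castLE hcle i)) = 0 from
        Ideal.Quotient.eq_zero_iff_mem.mpr (Ideal.subset_span ⟨_, i.2, rfl⟩)]
      exact Ideal.zero_mem _
    · refine dim_le_of_disjoint hW (r := N + 1 - c) (by omega) (fun i => φ (F ⟨c + i, by omega⟩))
        (fun i => ⟨_, he _, (hF _).map _⟩) (Set.eq_empty_of_forall_notMem fun y hy => ?_)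
      refine y.not_irrelevant_le ?_
      have hall : Ideal.span (Set.range F) ≤ Ideal.comap φ y.asHomogeneousIdeal.toIdeal := Ideal.span_le.mpr (by
        rintro _ ⟨i, rfl⟩
        rcases lt_or_ge (i : ℕ) c with hi | hi
        · exact hy.1 ⟨⟨i, hi⟩, rfl⟩
        · refine hy.2 ⟨⟨i - c, by omega⟩, ?_⟩
          simp only [Nat.add_sub_cancel' hi, Fin.eta])
      intro a ha
      change a ∈ y.asHomogeneousIdeal.toIdeal
      have ha' : a ∈ HomogIdeal.mIdeal s.asIdeal.ResidueField N := (HomogIdeal.irrelevant_eq (k := s.asIdeal.ResidueField) (n := N)) ▸ ha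
      refine (Ideal.span_le.mpr ?_ : HomogIdeal.mIdeal s.asIdeal.ResidueField N ≤ _) ha'
      rintro _ ⟨l, rfl⟩
      have hl := hall (hD l)
      rw [Ideal.mem_comap, map_pow, map_X] at hl
      exact y.isPrime.mem_of_pow_mem D hl

end Groth.Agent.FlatCI
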