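import Groth.Agent.FlatCI.Regular
import Groth.Prelude.Def_GrQuot

/-!
# Graded pieces of a complete intersection over a local ring are free
-/

set_option autoImplicit false
set_option linter.style.haveILetI false

universe u

namespace Groth.Agent.FlatCI

open MvPolynomial IsLocalRing TensorProduct

variable {A : Type u} [CommRing A] {n c : ℕ}

local notation "P" => MvPolynomial (Fin (n + 1)) A
local notation "ℋ" => CohB1.polyGrading n A

theorem free_of_injective_mod {V W C : Type u} [AddCommGroup V] [Module A V] [AddCommGroup W] [Module A W]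
    [AddCommGroup C] [Module A C] [IsLocalRing A] [Module.Finite A V] [Module.Finite A W] [Module.Free A W]
    (u : V →ₗ[A] W) (π : W →ₗ[A] C) (hπ : Function.Surjective π) (hex : Function.Exact u π)
    (h : ∀ v, u v ∈ maximalIdeal A • (⊤ : Submodule A W) → v ∈ maximalIdeal A • (⊤ : Submodule A V)) :
    Module.Free A C := by
  refine Module.free_of_lTensor_residueField_injective (f := u) (g := π) hπ hex
    ((injective_iff_map_eq_zero _).mpr fun y hy => ?_)
  obtain ⟨v, rfl⟩ := TensorProduct.mk_surjective A V (ResidueField A) Ideal.Quotient.mk_surjective y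
  rw [TensorProduct.mk_apply, LinearMap.lTensor_tmul] at hy
  have h1 : TensorProduct.quotTensorEquivQuotSMul W (maximalIdeal A) (1 ⊗ₜ u v) = 0 :=
    (LinearEquiv.map_eq_zero_iff _).mpr hy
  rw [TensorProduct.quotTensorEquivQuotSMul_mk_one_tmul, Submodule.Quotient.mk_eq_zero] at h1
  refine (LinearEquiv.map_eq_zero_iff (TensorProduct.quotTensorEquivQuotSMul V (maximalIdeal A))).mp ?_
  erw [TensorProduct.quotTensorEquivQuotSMul_mk_one_tmul]
  exact (Submodule.Quotient.mk_eq_zero _).mpr (h v h1)

theorem component_mul {g : P} {e : ℕ} (hg : g.IsHomogeneous e) (x : P) (i : ℕ) :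
    homogeneousComponent (e + i) (g * x) = g * homogeneousComponent i x := by
  conv_lhs => rw [← sum_homogeneousComponent x, Finset.mul_sum, map_sum]
  rw [Finset.sum_eq_single i]
  · rw [homogeneousComponent_of_mem (hg.mul (homogeneousComponent_isHomogeneous i x)), if_pos rfl]
  · intro j _ hj
    rw [homogeneousComponent_of_mem (hg.mul (homogeneousComponent_isHomogeneous j x)), if_neg (by omega)]
  · intro hi
    rw [homogeneousComponent_eq_zero i x (by simp only [Finset.mem_range] at hi; omega), mul_zero, map_zero]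

theorem component_mem {J : Ideal P} (hJ : J.IsHomogeneous ℋ) {f : P} (hf : f ∈ J) (d : ℕ) :
    homogeneousComponent d f ∈ J := by
  have h := hJ d hf
  rw [← DirectSum.Decomposition.decompose'_eq] at h
  erw [decomposition.decompose'_apply] at h
  exact h

theorem component_self {y : P} {m : ℕ} (hy : y.IsHomogeneous m) : homogeneousComponent m y = y := by
  rw [homogeneousComponent_of_mem hy, if_pos rfl]

instance finite_homogeneous (m : ℕ) : Module.Finite A (ℋ m) := by
  rw [CohB1.polyGrading, homogeneousSubmodule_eq_finsupp_supported]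
  have : Finite ↥{d : Fin (n + 1) →₀ ℕ | d.degree = m} := Set.Finite.to_subtype
    ((Finset.finsuppAntidiag Finset.univ m).finite_toSet.subset fun d hd => by
      rw [Finset.mem_coe, Finset.mem_finsuppAntidiag]
      refine ⟨?_, Finset.subset_univ _⟩
      rw [← hd, Finsupp.degree]
      exact (Finset.sum_subset (Finset.subset_univ _) fun i _ hi => Finsupp.notMem_support_iff.mp hi).symm)
  exact Module.Finite.of_basis (MvPolynomial.basisRestrictSupport A _)

theorem free_homogeneous (m : ℕ) : Module.Free A (ℋ m) := by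
  rw [CohB1.polyGrading, homogeneousSubmodule_eq_finsupp_supported]
  exact Module.Free.of_basis (MvPolynomial.basisRestrictSupport A _)

instance finite_quot (J : Ideal P) (m : ℕ) : Module.Finite A (GrQuot.quot ℋ J m) :=
  Module.Finite.of_surjective _ (GrQuot.pieceMap_surjective ℋ J m)

/-- The ideal generated by the forms before `j`. -/
noncomputable def pre (F : Fin c → MvPolynomial (Fin (n + 1)) A) (j : ℕ) : Ideal (MvPolynomial (Fin (n + 1)) A) :=
  Ideal.span (F '' {i | (i : ℕ) < j})

theorem pre_isHomogeneous (F : Fin c → P) (d : Fin c → ℕ) (hF : ∀ i, (F i).IsHomogeneous (d i)) (j : ℕ) :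
    (pre F j).IsHomogeneous ℋ :=
  Ideal.homogeneous_span _ _ (by
    rintro _ ⟨i, -, rfl⟩
    exact ⟨d i, (mem_homogeneousSubmodule _ _).mpr (hF i)⟩)

theorem pre_zero (F : Fin c → P) : pre F 0 = ⊥ := by simp [pre]

theorem pre_last (F : Fin c → P) : pre F c = Ideal.span (Set.range F) := by
  rw [pre, ← Set.image_univ]
  congr 2
  exact Set.eq_univ_of_forall fun i => i.2

theorem pre_succ (F : Fin c → P) (j : Fin c) : pre F (j + 1) = pre F j ⊔ Ideal.span {F j} := by
  rw [pre, pre, ← Ideal.span_union, ← Set.image_singleton, ← Set.image_union]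
  congr 2
  ext i
  simp only [Set.mem_ofPred_eq, Set.mem_union, Set.mem_singleton_iff, Fin.ext_iff]
  omega

theorem free_quot_zero (F : Fin c → P) (m : ℕ) : Module.Free A (GrQuot.quot ℋ (pre F 0) m) := by
  haveI := free_homogeneous (A := A) (n := n) m
  refine Module.Free.of_equiv (LinearEquiv.ofBijective (GrQuot.pieceMap ℋ (pre F 0) m)
    ⟨fun x y h => Subtype.ext ?_, GrQuot.pieceMap_surjective _ _ _⟩)
  have h' := Ideal.Quotient.eq.mp (congrArg Subtype.val h)
  rw [pre_zero, Ideal.mem_bot, sub_eq_zero] at h'
  exact h'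

/-- An element of the piece of degree `m` with all coefficients in the maximal ideal. -/
theorem mem_smul_of_map_eq_zero [IsLocalRing A] {m : ℕ} {y : P} (hy : y.IsHomogeneous m)
    (h : MvPolynomial.map (residue A) y = 0) :
    (⟨y, hy⟩ : ℋ m) ∈ maximalIdeal A • (⊤ : Submodule A (ℋ m)) := by
  have hmon : ∀ d ∈ y.support, monomial d (1 : A) ∈ ℋ m := fun d hd =>
    isHomogeneous_monomial _ (by rw [← hy (mem_support_iff.mp hd), Finsupp.degree_eq_weight_one]; rfl)
  have he : (⟨y, hy⟩ : ℋ m) = ∑ d ∈ y.support.attach, coeff d.1 y • (⟨monomial d.1 1, hmon d.1 d.2⟩ : ℋ m) := by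
    refine Subtype.ext ?_
    rw [AddSubmonoidClass.coe_finsetSum]
    simp only [SetLike.val_smul, smul_monomial, smul_eq_mul, mul_one]
    rw [Finset.sum_attach y.support (fun d => monomial d (coeff d y))]
    exact y.as_sum
  rw [he]
  refine sum_mem fun d _ => Submodule.smul_mem_smul ?_ Submodule.mem_top
  rw [← residue_eq_zero_iff, ← coeff_map, h, coeff_zero]

variable [IsLocalRing A]

/-- The graded pieces of the quotient by a residually regular sequence of forms are free. -/
theorem free_quot (F : Fin c → P) (d : Fin c → ℕ) (hF : ∀ i, (F i).IsHomogeneous (d i))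
    (hreg : ∀ (j : Fin c) (x : MvPolynomial (Fin (n + 1)) (ResidueField A)),
      MvPolynomial.map (residue A) (F j) * x ∈ (pre F j).map (MvPolynomial.map (residue A)) →
        x ∈ (pre F j).map (MvPolynomial.map (residue A))) :
    ∀ j, j ≤ c → ∀ m, Module.Free A (GrQuot.quot ℋ (pre F j) m) := by
  intro j
  induction j with
  | zero => exact fun _ m => free_quot_zero F m
  | succ j ih =>
    intro hj m
    specialize ih (by omega)
    obtain ⟨jj, hjj⟩ : ∃ jj : Fin c, (jj : ℕ) = j := ⟨⟨j, by omega⟩, rfl⟩
    subst hjj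
    set φ := MvPolynomial.map (σ := Fin (n + 1)) (residue A)
    set J := pre F jj with hJ
    have hJ' : pre F (jj + 1) = J ⊔ Ideal.span {F jj} := pre_succ F jj
    have hle : J ≤ pre F (jj + 1) := hJ' ▸ le_sup_left
    have hmem : ∀ (m : ℕ) (x : P ⧸ J), x ∈ GrQuot.quot ℋ J m →
        Ideal.Quotient.factorₐ A hle x ∈ GrQuot.quot ℋ (pre F (jj + 1)) m := by
      rintro m x hx
      obtain ⟨s, hs, rfl⟩ := (GrQuot.mem_quot_iff _ _ _ _).mp hx
      exact GrQuot.mk_mem_quot _ _ hs
    let π : GrQuot.quot ℋ J m →ₗ[A] GrQuot.quot ℋ (pre F (jj + 1)) m :=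
      (Ideal.Quotient.factorₐ A hle).toLinearMap.restrict (hmem m)
    have hπ : Function.Surjective π := by
      rintro ⟨x, hx⟩
      obtain ⟨s, hs, rfl⟩ := (GrQuot.mem_quot_iff _ _ _ _).mp hx
      exact ⟨⟨Ideal.Quotient.mk J s, GrQuot.mk_mem_quot _ _ hs⟩, rfl⟩
    haveI := ih m
    -- elements killed by `π`
    have hker : ∀ y : P, y.IsHomogeneous m → y ∈ pre F (jj + 1) →
        ∃ g, y - F jj * g ∈ J ∧ (d jj ≤ m → g.IsHomogeneous (m - d jj)) ∧ (m < d jj → g = 0) := by
      intro y hy hyJ
      rw [hJ', Submodule.mem_sup] at hyJ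
      obtain ⟨a, ha, b, hb, hab⟩ := hyJ
      obtain ⟨g, hg⟩ := Ideal.mem_span_singleton'.mp hb
      subst hg
      have hya : y - g * F jj = a := by rw [← hab, add_sub_cancel_right]
      have hc := component_mem (pre_isHomogeneous F d hF _) (show y - g * F jj ∈ J by rwa [hya]) m
      rw [map_sub, component_self hy, mul_comm] at hc
      by_cases hm : d jj ≤ m
      · refine ⟨homogeneousComponent (m - d jj) g, ?_, fun _ => homogeneousComponent_isHomogeneous _ _,
          fun h => absurd h (not_lt.mpr hm)⟩
        rw [← component_mul (hF jj), Nat.add_sub_cancel' hm]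
        exact hc
      · refine ⟨0, ?_, fun h => absurd h hm, fun _ => rfl⟩
        have hz : homogeneousComponent m (F jj * g) = 0 := by
          conv_lhs => rw [← sum_homogeneousComponent g, Finset.mul_sum, map_sum]
          refine Finset.sum_eq_zero fun i _ => ?_
          rw [homogeneousComponent_of_mem ((hF jj).mul (homogeneousComponent_isHomogeneous i g)),
            if_neg (by omega)]
        rw [hz, sub_zero] at hc
        rwa [mul_zero, sub_zero]
    by_cases hm : d jj ≤ m
    · obtain ⟨m', hm'⟩ : ∃ m', m = d jj + m' := ⟨m - d jj, by omega⟩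
      haveI := ih m'
      have humem : ∀ x ∈ GrQuot.quot ℋ J m',
          LinearMap.mulLeft A (Ideal.Quotient.mk J (F jj)) x ∈ GrQuot.quot ℋ J m := by
        intro x hx
        rw [hm']
        exact SetLike.mul_mem_graded (GrQuot.mk_mem_quot _ _ ((mem_homogeneousSubmodule _ _).mpr (hF jj))) hx
      let u : GrQuot.quot ℋ J m' →ₗ[A] GrQuot.quot ℋ J m :=
        (LinearMap.mulLeft A (Ideal.Quotient.mk J (F jj))).restrict humem
      refine free_of_injective_mod u π hπ ?_ ?_
      · intro x
        obtain ⟨x, hx⟩ := x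
        obtain ⟨y, hy, rfl⟩ := (GrQuot.mem_quot_iff _ _ _ _).mp hx
        constructor
        · intro h
          have h' : y ∈ pre F (jj + 1) := Ideal.Quotient.eq_zero_iff_mem.mp (congrArg Subtype.val h)
          obtain ⟨g, hg, hgh, -⟩ := hker y hy h'
          have hg' : g ∈ ℋ m' := by
            have := hgh hm
            rwa [show m - d jj = m' by omega] at this
          refine ⟨⟨Ideal.Quotient.mk J g, GrQuot.mk_mem_quot _ _ hg'⟩, Subtype.ext ?_⟩
          change Ideal.Quotient.mk J (F jj) * Ideal.Quotient.mk J g = Ideal.Quotient.mk J y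
          rw [← map_mul]
          exact (Ideal.Quotient.eq.mpr hg).symm
        · rintro ⟨⟨w, hw⟩, hwx⟩
          rw [← hwx]
          obtain ⟨g, -, rfl⟩ := (GrQuot.mem_quot_iff _ _ _ _).mp hw
          refine Subtype.ext (Ideal.Quotient.eq_zero_iff_mem.mpr ?_)
          rw [hJ']
          exact Submodule.mem_sup_right (Ideal.mul_mem_right _ _ (Ideal.mem_span_singleton_self _))
      · intro v hv
        obtain ⟨⟨y, hy⟩, rfl⟩ := GrQuot.pieceMap_surjective ℋ J m' v
        rw [← LinearMap.range_eq_top.mpr (GrQuot.pieceMap_surjective ℋ J m), LinearMap.range_eq_map,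
          ← Submodule.map_smul''] at hv
        obtain ⟨⟨w, hw⟩, hwm, hwe⟩ := hv
        have h1 : F jj * y - w ∈ J := Ideal.Quotient.eq.mp (by
          have := congrArg Subtype.val hwe
          exact (this.trans (by rw [map_mul]; rfl)).symm)
        have h2 : φ w = 0 := by
          refine Submodule.smul_induction_on (p := fun z : ℋ m => φ (z : P) = 0) hwm ?_ ?_
          · intro a ha z _
            rw [SetLike.val_smul, smul_eq_C_mul, map_mul, MvPolynomial.map_C, (residue_eq_zero_iff a).mpr ha, map_zero,
              zero_mul]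
          · intro z₁ z₂ h₁ h₂
            rw [Submodule.coe_add, map_add, h₁, h₂, add_zero]
        have h3 : φ y ∈ J.map φ := hreg jj (φ y) (by
          have := Ideal.mem_map_of_mem φ h1
          rwa [map_sub, h2, sub_zero, map_mul] at this)
        obtain ⟨a, ha, hay⟩ := (Ideal.mem_map_iff_of_surjective φ
          (MvPolynomial.map_surjective _ Ideal.Quotient.mk_surjective)).mp h3
        have hz : φ (homogeneousComponent m' (y - a)) = 0 := by
          refine MvPolynomial.ext _ _ fun e => ?_
          have h4 : coeff e (φ (y - a)) = 0 := by rw [map_sub, hay, sub_self, coeff_zero]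
          rw [coeff_map] at h4
          rw [coeff_map, coeff_zero, coeff_homogeneousComponent]
          split_ifs
          · exact h4
          · exact map_zero _
        have hsm := Submodule.mem_map_of_mem (f := GrQuot.pieceMap ℋ J m')
          (mem_smul_of_map_eq_zero (homogeneousComponent_isHomogeneous m' (y - a)) hz)
        rw [Submodule.map_smul'', ← LinearMap.range_eq_map,
          LinearMap.range_eq_top.mpr (GrQuot.pieceMap_surjective ℋ J m')] at hsm
        convert hsm using 1
        refine Subtype.ext (Ideal.Quotient.eq.mpr ?_)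
        change y - homogeneousComponent m' (y - a) ∈ J
        rw [map_sub, component_self hy, sub_sub_cancel]
        exact component_mem (pre_isHomogeneous F d hF _) ha m'
    · refine Module.Free.of_equiv (LinearEquiv.ofBijective π ⟨(injective_iff_map_eq_zero π).mpr ?_, hπ⟩)
      rintro ⟨x, hx⟩ h
      obtain ⟨y, hy, rfl⟩ := (GrQuot.mem_quot_iff _ _ _ _).mp hx
      obtain ⟨g, hg, -, hg0⟩ := hker y hy (Ideal.Quotient.eq_zero_iff_mem.mp (congrArg Subtype.val h))
      rw [hg0 (by omega), mul_zero, sub_zero] at hg
      exact Subtype.ext (Ideal.Quotient.eq_zero_iff_mem.mpr hg)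

/-- The graded pieces of the quotient by forms without common zero on the closed fibre are free. -/
theorem free_quot_of_zeroDim (F : Fin (n + 1) → P) (d : Fin (n + 1) → ℕ) (hd : ∀ i, 1 ≤ d i)
    (hF : ∀ i, (F i).IsHomogeneous (d i))
    (hdim : ringKrullDim (MvPolynomial (Fin (n + 1)) (ResidueField A) ⧸
      Ideal.span (Set.range fun i => MvPolynomial.map (residue A) (F i))) ≤ 0)
    (j : ℕ) (hj : j ≤ n + 1) (m : ℕ) : Module.Free A (GrQuot.quot ℋ (pre F j) m) := by
  refine free_quot F d hF (fun i x hx => ?_) j hj m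
  have he : (pre F i).map (MvPolynomial.map (residue A)) =
      CIHilb.part (fun i => MvPolynomial.map (residue A) (F i)) i := by
    rw [pre, CIHilb.part, Ideal.map_span, ← Set.image_comp]
    rfl
  rw [he] at hx ⊢
  exact mem_of_mul_mem_zeroDim _ d hd (fun i => (hF i).map _) hdim i x hx

end Groth.Agent.FlatCI
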