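import Groth.Agent.CIHilb.Basic

/-!
# Forms without common zero form a regular sequence
-/

set_option autoImplicit false
set_option linter.style.haveILetI false

universe u

namespace Groth.Agent.FlatCI

open MvPolynomial IsLocalRing RingTheory.Sequence CIHilb

variable {k : Type u} [Field k] {n : ℕ}

local notation "S" => MvPolynomial (Fin (n + 1)) k

/-- `n + 1` forms without common zero form a regular sequence. -/
theorem mem_of_mul_mem_zeroDim (f : Fin (n + 1) → MvPolynomial (Fin (n + 1)) k) (d : Fin (n + 1) → ℕ)
    (hd : ∀ i, 1 ≤ d i) (hf : ∀ i, (f i).IsHomogeneous (d i))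
    (hdim : ringKrullDim (S ⧸ Ideal.span (Set.range f)) ≤ 0)
    (j : Fin (n + 1)) (x : S) (hx : f j * x ∈ part f j) : x ∈ part f j := by
  let M := HomogIdeal.mIdeal k n
  let I := Ideal.span (Set.range f)
  have hIM : I ≤ M := Ideal.span_le.mpr (by
    rintro _ ⟨i, rfl⟩
    rw [SetLike.mem_coe, HomogIdeal.mem_mIdeal_iff, constantCoeff_eq]
    by_contra h0
    have h1 := hf i h0
    rw [map_zero] at h1
    exact absurd h1.symm (by have := hd i; omega))
  let R := Localization.AtPrime M
  haveI : IsRegularLocalRing R := IsRegularRing.isRegularLocalRing_localization (R := S) M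
  have hR : ringKrullDim R = ((n + 1 : ℕ) : WithBot ℕ∞) := by
    rw [IsLocalization.AtPrime.ringKrullDim_eq_height M, GLinFree.height_eq_of_isMaximal]
    rfl
  let F : Fin (n + 1) → R := fun i => algebraMap S R (f i)
  have hI' : Ideal.ofList (List.ofFn F) = I.map (algebraMap S R) := by
    rw [CMFlat.ofList_ofFn, Ideal.map_span, ← Set.range_comp]
    rfl
  have hle : I.map (algebraMap S R) ≤ maximalIdeal R := by
    rw [← Localization.AtPrime.map_eq_maximalIdeal]
    exact Ideal.map_mono hIM
  have hne : I.map (algebraMap S R) ≠ ⊤ := fun h => (maximalIdeal.isMaximal R).ne_top (top_le_iff.mp (h.ge.trans hle))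
  have hlow := ringKrullDim_le_ringKrullDim_quotient_add_spanFinrank (R := R) (I := I.map (algebraMap S R))
    (hle.trans (ringJacobson_eq_maximalIdeal (R := R)).ge)
  have hspan : (I.map (algebraMap S R)).spanFinrank ≤ n + 1 := by
    rw [← hI', CMFlat.ofList_ofFn]
    refine (Submodule.spanFinrank_span_le_ncard_of_finite (Set.finite_range F)).trans ?_
    rw [← Nat.card_coe_set_eq]
    exact (Finite.card_range_le F).trans (Nat.card_fin (n + 1)).le
  let P : Ideal (S ⧸ I) := M.map (Ideal.Quotient.mk I)
  have hPM : P.comap (Ideal.Quotient.mk I) = M := by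
    rw [Ideal.comap_map_of_surjective _ Ideal.Quotient.mk_surjective, ← RingHom.ker_eq_comap_bot, Ideal.mk_ker]
    exact sup_eq_left.mpr hIM
  haveI : P.IsPrime := Ideal.map_isPrime_of_surjective Ideal.Quotient.mk_surjective (by rwa [Ideal.mk_ker])
  have hup : ringKrullDim (R ⧸ I.map (algebraMap S R)) ≤ 0 := by
    obtain ⟨e⟩ := Goren.quot_localization S I P
    have h1 : ringKrullDim (Localization.AtPrime P) ≤ 0 := by
      rw [IsLocalization.AtPrime.ringKrullDim_eq_height P (Localization.AtPrime P)]
      exact (Ideal.height_le_ringKrullDim_of_ne_top (Ideal.IsPrime.ne_top inferInstance)).trans hdim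
    rw [← ringKrullDim_eq_of_ringEquiv e] at h1
    have key : ∀ (Q : Ideal S) [Q.IsPrime], Q = M →
        ringKrullDim (Localization.AtPrime Q ⧸ I.map (algebraMap S (Localization.AtPrime Q))) ≤ 0 →
        ringKrullDim (R ⧸ I.map (algebraMap S R)) ≤ 0 := by
      intro Q _ hQ h
      subst hQ
      exact h
    exact key _ hPM h1
  have hreg : IsWeaklyRegular R (List.ofFn F) := by
    refine CotT.isWeaklyRegular_of_dim _ (by rw [hI']; exact hne) ?_
    rw [List.length_ofFn, hI']
    refine le_antisymm ?_ ?_
    · refine (add_le_add le_rfl hup).trans ?_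
      rw [hR]
      exact le_of_eq (by push_cast; rfl)
    · refine hlow.trans ?_
      rw [add_comm]
      exact add_le_add (by exact_mod_cast hspan) le_rfl
  have hmap : Ideal.span (F '' {i | i < j}) = (part f j).map (algebraMap S R) := by
    rw [part, Ideal.map_span, ← Set.image_comp]
    rfl
  have hloc := (SyntLib.isWeaklyRegular_ofFn_iff F).mp hreg j (algebraMap S R x) (by
    rw [hmap, ← map_mul]
    exact Ideal.mem_map_of_mem _ hx)
  rw [hmap, IsLocalization.algebraMap_mem_map_algebraMap_iff M.primeCompl] at hloc
  obtain ⟨t, ht, htx⟩ := hloc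
  have hhom := part_isHomogeneous f d hf j
  have hne0 : constantCoeff t ≠ 0 := fun h => ht (HomogIdeal.mem_mIdeal_iff.mpr h)
  -- lowest degree induction
  suffices h : ∀ i, homogeneousComponent i x ∈ part f j by
    rw [← sum_homogeneousComponent x]
    exact sum_mem fun i _ => h i
  intro i
  induction i using Nat.strong_induction_on with
  | _ i ih =>
    have h1 := HomogIdeal.component_mem hhom htx i
    have h2 : homogeneousComponent i (t * x) =
        ∑ l ∈ Finset.range (i + 1), homogeneousComponent (i - l) t * homogeneousComponent l x := by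
      conv_lhs => rw [← sum_homogeneousComponent x, Finset.mul_sum, map_sum]
      have hterm : ∀ l, homogeneousComponent i (t * homogeneousComponent l x) =
          if l ≤ i then homogeneousComponent (i - l) t * homogeneousComponent l x else 0 := by
        intro l
        rw [mul_comm t]
        split
        next hl =>
          conv_lhs => rw [show i = l + (i - l) by omega]
          rw [component_mul (homogeneousComponent_isHomogeneous l x), mul_comm]
        next hl =>
          conv_lhs => rw [← sum_homogeneousComponent t, Finset.mul_sum, map_sum]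
          refine Finset.sum_eq_zero fun m _ => ?_
          rw [homogeneousComponent_of_mem ((homogeneousComponent_isHomogeneous l x).mul
            (homogeneousComponent_isHomogeneous m t)), if_neg (by omega)]
      simp only [hterm]
      rw [← Finset.sum_filter]
      refine Finset.sum_subset (fun l hl => ?_) (fun l hl hl' => ?_)
      · simp only [Finset.mem_filter, Finset.mem_range] at hl ⊢; omega
      · simp only [Finset.mem_filter, Finset.mem_range] at hl hl'
        rw [homogeneousComponent_eq_zero l x (by omega), mul_zero]
    rw [h2, Finset.sum_range_succ, Nat.sub_self, homogeneousComponent_zero] at h1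
    have h3 : C (constantCoeff t) * homogeneousComponent i x ∈ part f j := by
      rw [constantCoeff_eq]
      have h4 : ∑ l ∈ Finset.range i, homogeneousComponent (i - l) t * homogeneousComponent l x ∈ part f j :=
        sum_mem fun l hl => Ideal.mul_mem_left _ _ (ih l (Finset.mem_range.mp hl))
      simpa using (part f j).sub_mem h1 h4
    have h5 := (part f j).mul_mem_left (C (constantCoeff t)⁻¹) h3
    rwa [← mul_assoc, ← map_mul, inv_mul_cancel₀ hne0, map_one, one_mul] at h5

end Groth.Agent.FlatCI
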