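import Groth.Agent.FlatCI.Free

/-!
# Powers of the variables in the ideal of forms without common zero
-/

set_option autoImplicit false
set_option linter.style.haveILetI false

universe u

namespace Groth.Agent.FlatCI

open MvPolynomial IsLocalRing

variable {A : Type u} [CommRing A] [IsLocalRing A] {n : ℕ}

local notation "P" => MvPolynomial (Fin (n + 1)) A
local notation "ℋ" => CohB1.polyGrading n A

theorem exists_pow_X_mem (F : Fin (n + 1) → P) (d : Fin (n + 1) → ℕ) (hd : ∀ i, 1 ≤ d i)
    (hF : ∀ i, (F i).IsHomogeneous (d i))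
    (hdim : ringKrullDim (MvPolynomial (Fin (n + 1)) (ResidueField A) ⧸
      Ideal.span (Set.range fun i => MvPolynomial.map (residue A) (F i))) ≤ 0) :
    ∃ D : ℕ, ∀ l, (X l : P) ^ D ∈ Ideal.span (Set.range F) := by
  set φ := MvPolynomial.map (σ := Fin (n + 1)) (residue A)
  set J := Ideal.span (Set.range F) with hJ
  have hmap : J.map φ = Ideal.span (Set.range fun i => φ (F i)) := by
    rw [hJ, Ideal.map_span, ← Set.range_comp]; rfl
  have hJh : J.IsHomogeneous ℋ := by rw [hJ, ← pre_last F]; exact pre_isHomogeneous F d hF (n + 1)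
  set I := J.map φ with hI
  have hIh : I.IsHomogeneous (CohB1.polyGrading n (ResidueField A)) := by
    rw [hmap]
    exact Ideal.homogeneous_span _ _ (by
      rintro _ ⟨i, rfl⟩
      exact ⟨d i, (mem_homogeneousSubmodule _ _).mpr ((hF i).map _)⟩)
  rw [← hmap] at hdim
  have hrad : HomogIdeal.mIdeal (ResidueField A) n ≤ I.radical := by
    rw [Ideal.radical_eq_sInf]
    refine le_sInf fun q ⟨hIq, hq⟩ => ?_
    haveI := hq
    obtain ⟨p, hp, hpq⟩ := Ideal.exists_minimalPrimes_le hIq
    haveI := hp.1.1
    have h0 : p.IsMaximal := by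
      haveI : Ring.KrullDimLE 0 (MvPolynomial (Fin (n + 1)) (ResidueField A) ⧸ I) :=
        Ring.krullDimLE_iff.mpr hdim
      haveI : (p.map (Ideal.Quotient.mk I)).IsPrime :=
        Ideal.map_isPrime_of_surjective Ideal.Quotient.mk_surjective (by rw [Ideal.mk_ker]; exact hp.1.2)
      have h := Ideal.comap_isMaximal_of_surjective (Ideal.Quotient.mk I) Ideal.Quotient.mk_surjective
        (K := p.map (Ideal.Quotient.mk I))
      rwa [Ideal.comap_map_of_surjective _ Ideal.Quotient.mk_surjective, ← RingHom.ker_eq_comap_bot, Ideal.mk_ker,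
        sup_eq_left.mpr hp.1.2] at h
    exact ((h0.eq_of_le (HomogIdeal.mIdeal_isMaximal (k := ResidueField A)).ne_top
      (HomogIdeal.le_mIdeal (HomogIdeal.isHomogeneous_of_mem_minimalPrimes hIh hp) hp.1.1.ne_top)).symm.le).trans hpq
  obtain ⟨D, hD⟩ := Ideal.exists_pow_le_of_le_radical_of_fg hrad (IsNoetherian.noetherian _)
  refine ⟨D, ?_⟩
  have htop : (⊤ : Submodule A (GrQuot.quot ℋ J D)) = ⊥ := by
    refine Submodule.eq_bot_of_le_smul_of_le_jacobson_bot (maximalIdeal A) ⊤ Module.Finite.fg_top ?_
      (IsLocalRing.maximalIdeal_le_jacobson _)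
    intro v _
    obtain ⟨⟨y, hy⟩, rfl⟩ := GrQuot.pieceMap_surjective ℋ J D v
    have h3 : φ y ∈ J.map φ := hD (by
      rw [HomogIdeal.mIdeal, mem_pow_idealOfVars_iff]
      intro e he
      have := (IsHomogeneous.map (show y.IsHomogeneous D from hy) (residue A)) (mem_support_iff.mp he)
      rw [← this, Finsupp.degree_eq_weight_one]; rfl)
    obtain ⟨a, ha, hay⟩ := (Ideal.mem_map_iff_of_surjective φ
      (MvPolynomial.map_surjective _ Ideal.Quotient.mk_surjective)).mp h3
    have hz : φ (homogeneousComponent D (y - a)) = 0 := by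
      refine MvPolynomial.ext _ _ fun e => ?_
      have h4 : coeff e (φ (y - a)) = 0 := by rw [map_sub, hay, sub_self, coeff_zero]
      rw [coeff_map] at h4
      rw [coeff_map, coeff_zero, coeff_homogeneousComponent]
      split_ifs
      · exact h4
      · exact map_zero _
    have hsm := Submodule.mem_map_of_mem (f := GrQuot.pieceMap ℋ J D)
      (mem_smul_of_map_eq_zero (homogeneousComponent_isHomogeneous D (y - a)) hz)
    rw [Submodule.map_smul'', ← LinearMap.range_eq_map,
      LinearMap.range_eq_top.mpr (GrQuot.pieceMap_surjective ℋ J D)] at hsm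
    convert hsm using 1
    refine Subtype.ext (Ideal.Quotient.eq.mpr ?_)
    change y - homogeneousComponent D (y - a) ∈ J
    rw [map_sub, component_self hy, sub_sub_cancel]
    exact component_mem hJh ha D
  intro l
  have hy : (X l : P) ^ D ∈ ℋ D := by
    simpa using (isHomogeneous_X A l).pow D
  have h := Submodule.mem_top (R := A) (x := GrQuot.pieceMap ℋ J D ⟨_, hy⟩)
  rw [htop, Submodule.mem_bot] at h
  exact Ideal.Quotient.eq_zero_iff_mem.mp (congrArg Subtype.val h)

end Groth.Agent.FlatCI
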